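import Cfsg.Agent.Lib.GC.O1
import Cfsg.Agent.Lib.GC.Pr

/-! # The configuration `B = A A'` without local characteristic two (copy of `GC.AB1`) -/

set_option autoImplicit false

namespace Cfsg.Lib.UQ

open Subgroup Cfsg.Lib.BG Cfsg.Lib.Transfer Cfsg.Lib.Loc Cfsg.Lib.PLocal Cfsg.Lib.CGT Cfsg.Lib.PU
open Cfsg.Lib.CS Cfsg.Lib.Root Cfsg.Lib.GC
open scoped commutatorElement MatrixGroups Matrix

variable {G : Type*} [Group G] {F : Type} [Field F] {A A' D L U X : Subgroup G} {a b c g l n x y : G}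

/-- The configuration. -/
structure AU (s : Sec SL(2, F) (Fin 2 → F) L A D) (A' : Subgroup G) : Prop where
  eA : IsElementaryAbelian 2 A
  eA' : IsElementaryAbelian 2 A'
  ker : s.pre ⊥ = A
  top : s.im L = ⊤
  le : A' ≤ L
  up : s.im A' = upperUnipotentSL2 F
  line : ∀ x ∈ A, s.ψ x 1 = 0 → x ∈ A'
  cD : D ≤ 𝐂(L)
  cent : 𝐂(A) ≤ A
  norm : 𝐍(A) ≤ 𝐍(L)
  dich : D = ⊥ ∨ Nat.card D = Nat.card F
  der : 2 < Nat.card F → D ≤ ⁅A, A'⁆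
  sw : ∀ n ∈ 𝐍(A ⊔ A'), n ⋆ A = A' → D ⊓ n ⋆ D = ⊥

local notation "𝐔" => upperUnipotentSL2 F
local notation "𝔅" => A ⊔ A'
local notation "ℭ" => A ⊓ A'
local notation "𝔑" => 𝐍(A) ⊓ 𝐍(A')

namespace AU

variable {s : Sec SL(2, F) (Fin 2 → F) L A D} (h : AU s A')
include h

theorem A_le : A ≤ L := h.ker.ge.trans (s.pre_le ⊥)
theorem B_le : 𝔅 ≤ L := sup_le h.A_le h.le
theorem rho_A (hx : x ∈ A) : s.ρ x = 1 := (Sec.mem_K.1 (h.ker.ge hx)).2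
theorem mem_A (hx : x ∈ L) (e : s.ρ x = 1) : x ∈ A := h.ker.le (Sec.mem_K.2 ⟨hx, e⟩)
theorem nA : 𝔅 ≤ 𝐍(A) := h.B_le.trans s.norm
theorem pA : IsPGroup 2 A := elab_pgroup h.eA
theorem pA' : IsPGroup 2 A' := elab_pgroup h.eA'
theorem pB : IsPGroup 2 ↥𝔅 := pgroup_sup h.pA h.pA' (h.le.trans s.norm)
theorem eC : IsElementaryAbelian 2 ℭ := elab_of_le h.eA inf_le_left

theorem mem_B : g ∈ 𝔅 ↔ g ∈ L ∧ s.ρ g ∈ 𝐔 := by
  rw [← Sec.mem_pre, ← h.up, s.pre_im h.le, h.ker, sup_comm]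

theorem exists_mul (hb : b ∈ 𝔅) : ∃ a ∈ A, ∃ a' ∈ A', a * a' = b :=
  (mem_sup_left_norm (h.le.trans s.norm)).1 hb

theorem exists_A' (t : F) : ∃ y ∈ A', s.ρ y = xU t :=
  let ⟨y, hy, _, e⟩ := Sec.mem_im.1 (h.up.ge (xU_mem t)); ⟨y, hy, e⟩

theorem exists_L (γ : SL(2, F)) : ∃ l ∈ L, s.ρ l = γ :=
  let ⟨l, hl, _, e⟩ := Sec.mem_im.1 (h.top.ge (mem_top γ)); ⟨l, hl, e⟩

theorem rho_B (hy : y ∈ 𝔅) : s.ρ y = xU (s.ρ y 0 1) := by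
  obtain ⟨t, e⟩ := mem_upper_iff.1 (h.mem_B.1 hy).2
  rw [e]; rfl

theorem mem_A_iff (hy : y ∈ 𝔅) : y ∈ A ↔ s.ρ y 0 1 = 0 :=
  ⟨fun e => by rw [h.rho_A e]; rfl, fun e => h.mem_A (h.B_le hy) (by
    rw [h.rho_B hy, e]; exact sl2_ext rfl rfl rfl rfl)⟩

theorem tau_mul (hx : x ∈ 𝔅) (hy : y ∈ 𝔅) : s.ρ (x * y) 0 1 = s.ρ x 0 1 + s.ρ y 0 1 := by
  rw [s.mul x (h.B_le hx) y (h.B_le hy), h.rho_B hx, h.rho_B hy, ← xU_add]; rfl

theorem psi_cm (hy : y ∈ 𝔅) (hx : x ∈ A) : s.ψ ⁅y, x⁆ = ![s.ρ y 0 1 * s.ψ x 1, 0] := by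
  rw [s.psi_comm (h.B_le hy) hx, h.rho_B hy, sl_smul, xU_mulVec]
  exact vec_ext (by simp [xU]) (by simp)

theorem cm_mem (hy : y ∈ 𝔅) (hx : x ∈ A) : ⁅y, x⁆ ∈ ℭ :=
  ⟨s.comm_mem (h.B_le hy) hx, h.line _ (s.comm_mem (h.B_le hy) hx) (by rw [h.psi_cm hy hx]; rfl)⟩

theorem mem_C (hx : x ∈ A) : x ∈ A' ↔ s.ψ x 1 = 0 := by
  refine ⟨fun e => ?_, h.line x hx⟩
  obtain ⟨y, hy, e1⟩ := h.exists_A' 1
  have := congrFun (h.psi_cm (mem_sup_right hy) hx) 0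
  rw [comm_eq_one.2 (el_comm h.eA' hy e), s.psi_one, e1] at this
  simpa [xU] using this.symm

theorem nd (hy : y ∈ 𝔅) (hx : x ∈ A) (e : ⁅y, x⁆ ∈ D) : y ∈ A ∨ x ∈ A' := by
  have := congrFun (h.psi_cm hy hx) 0
  rw [s.psi_eq_zero e] at this
  exact (mul_eq_zero.1 this.symm).imp (h.mem_A_iff hy).2 (h.mem_C hx).2

theorem nd' (hy : y ∈ 𝔅) (hx : x ∈ A) (e : y * x = x * y) : y ∈ A ∨ x ∈ A' :=
  h.nd hy hx (comm_eq_one.2 e ▸ one_mem D)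

theorem D_le : D ≤ ℭ := fun x hx => ⟨s.le hx, h.line x (s.le hx) (by rw [s.psi_eq_zero hx]; rfl)⟩

theorem mem_D (hc : c ∈ ℭ) : c ∈ D ↔ s.ψ c 0 = 0 := by
  rw [← s.ker c hc.1]
  exact ⟨fun e => by rw [e]; rfl, fun e => vec_ext e ((h.mem_C hc.1).1 hc.2)⟩

theorem nA' : 𝔅 ≤ 𝐍(A') := sup_le (norm_of_comm_le (commutator_le.2 fun y hy x hx =>
  (h.cm_mem (mem_sup_right hy) hx).2)) (le_norm A')

theorem B_le_N : 𝔅 ≤ 𝔑 := le_inf h.nA h.nA'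
theorem C_cent : ℭ ≤ 𝐂(𝔅) :=
  le_cent_sup (abelian_cent' h.eA.1 inf_le_left le_rfl) (abelian_cent' h.eA'.1 inf_le_right le_rfl)
theorem C_comm (hc : c ∈ ℭ) (hb : b ∈ 𝔅) : b * c = c * b := BG.mem_cent.1 (h.C_cent hc) b hb

omit h in
theorem N_le : 𝔑 ≤ 𝐍(𝔅) := norm_sup inf_le_left inf_le_right
omit h in
theorem N_le_C : 𝔑 ≤ 𝐍(ℭ) := norm_inf inf_le_left inf_le_right

theorem cm_mem' (hy : y ∈ 𝔅) (hx : x ∈ A') : ⁅y, x⁆ ∈ ℭ := by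
  obtain ⟨a, ha, a', ha', rfl⟩ := h.exists_mul hy
  rw [comm_mul_l, comm_eq_one.2 (el_comm h.eA' ha' hx), mul_one, mul_inv_cancel, one_mul,
    ← commutatorElement_inv]
  exact inv_mem (h.cm_mem (mem_sup_right hx) ha)

theorem cm_B (hx : x ∈ 𝔅) (hy : y ∈ 𝔅) : ⁅x, y⁆ ∈ ℭ := by
  obtain ⟨a, ha, a', ha', rfl⟩ := h.exists_mul hy
  rw [comm_mul_r]
  exact mul_mem (h.cm_mem hx ha) (conj_mem_of_norm (N_le_C (h.B_le_N (mem_sup_left ha))) (h.cm_mem' hx ha'))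

theorem sq_eq (hx : x ∈ A) (hy : y ∈ A') : x * y * (x * y) = ⁅x, y⁆ := by
  rw [commutatorElement_def, el_inv h.eA hx, el_inv h.eA' hy]; group

theorem sq_mem (hb : b ∈ 𝔅) : b * b ∈ ℭ := by
  obtain ⟨a, ha, a', ha', rfl⟩ := h.exists_mul hb
  exact h.sq_eq ha ha' ▸ h.cm_mem' (mem_sup_left ha) ha'

theorem inv_cases (hb : b ∈ 𝔅) (e : b * b = 1) : b ∈ A ∨ b ∈ A' := by
  obtain ⟨a, ha, a', ha', rfl⟩ := h.exists_mul hb
  rw [h.sq_eq ha ha', comm_eq_one] at e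
  exact (h.nd' (mem_sup_right ha') ha e.symm).imp (mul_mem ha) (mul_mem · ha')

theorem el_le (hU : IsElementaryAbelian 2 U) (h1 : U ≤ 𝔅) : U ≤ A ∨ U ≤ A' := by
  refine or_iff_not_imp_left.2 fun e v hv => ?_
  obtain ⟨u, hu, hu'⟩ := SetLike.not_le_iff_exists.1 e
  exact (h.inv_cases (h1 hv) (el_sq hU hv)).elim
    (fun e => (h.nd' (h1 hu) e (el_comm hU hu hv)).resolve_left hu') id

theorem exists_x : ∃ x ∈ A, s.ψ x 1 = 1 := let ⟨x, hx, e⟩ := s.surj ![0, 1]; ⟨x, hx, by rw [e]; rfl⟩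

theorem not_le : ¬ A ≤ A' := fun e =>
  let ⟨_, hx, e'⟩ := h.exists_x; one_ne_zero (e'.symm.trans ((h.mem_C hx).1 (e hx)))

theorem not_le' : ¬ A' ≤ A := fun e => by
  obtain ⟨y, hy, e'⟩ := h.exists_A' 1
  simpa [e', xU] using (h.mem_A_iff (mem_sup_right hy)).1 (e hy)

theorem exists_C (t : F) : ∃ c ∈ ℭ, s.ψ c 0 = t :=
  let ⟨x, hx, e⟩ := s.surj ![t, 0]; ⟨x, ⟨hx, h.line x hx (by rw [e]; rfl)⟩, by rw [e]; rfl⟩

theorem C_ne : ℭ ≠ ⊥ := fun e => by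
  obtain ⟨c, hc, e'⟩ := h.exists_C 1
  rw [mem_bot.1 (e.le hc), s.psi_one] at e'
  exact zero_ne_one e'

theorem A_ne : A ≠ ⊥ := ne_bot_mono h.C_ne inf_le_left
theorem B_ne : 𝔅 ≠ ⊥ := ne_bot_mono h.A_ne le_sup_left

/-- An element of `B` with a conjugate in `B` under an element outside the Borel subgroup. -/
theorem mem_A_of_conj (hl : l ∈ L) (h0 : s.ρ l 1 0 ≠ 0) (hb : b ∈ 𝔅) (e : l * b * l⁻¹ ∈ 𝔅) : b ∈ A := by
  have e1 := h.rho_B e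
  rw [s.rho_conj hl (h.B_le hb), h.rho_B hb, mul_inv_eq_iff_eq_mul] at e1
  exact (h.mem_A_iff hb).2 ((eq_zero_of_xU e1).resolve_left h0)

theorem mem_D_of_conj (hl : l ∈ L) (h0 : s.ρ l 1 0 ≠ 0) (hc : c ∈ ℭ) (e : l * c * l⁻¹ ∈ A') : c ∈ D := by
  have := (h.mem_C (s.conj_mem hl hc.1)).1 e
  rw [s.conj l hl c hc.1, sl_smul, mulVec_apply_one, (h.mem_C hc.1).1 hc.2] at this
  exact (h.mem_D hc).2 (by simpa [h0] using this)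

theorem exists_l : ∃ l ∈ L, s.ρ l 1 0 ≠ 0 :=
  let ⟨l, hl, e⟩ := h.exists_L (xL 1); ⟨l, hl, by rw [e]; exact one_ne_zero⟩

theorem D_eq : D = A ⊓ 𝐂(L) := le_antisymm (le_inf s.le h.cD) fun x hx => by
  obtain ⟨y, hy, hy'⟩ := SetLike.not_le_iff_exists.1 h.not_le'
  obtain ⟨l, hl, e⟩ := h.exists_l
  have := (h.nd' (mem_sup_right hy) hx.1 (BG.mem_cent.1 hx.2 y (h.le hy))).resolve_left hy'
  exact h.mem_D_of_conj hl e ⟨hx.1, this⟩ (by rwa [BG.mem_cent.1 hx.2 l hl, mul_inv_cancel_right])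

theorem norm_D : 𝐍(A) ≤ 𝐍(D) := h.D_eq ▸ norm_inf le_rfl (norm_cent h.norm)

theorem mem_norm_iff (hl : l ∈ L) : l ∈ 𝐍(𝔅) ↔ s.ρ l 1 0 = 0 := by
  have e : 𝔅 = s.pre 𝐔 := Subgroup.ext fun _ => h.mem_B.trans Sec.mem_pre.symm
  rw [← mem_norm_upper]
  refine ⟨fun e' => ?_, fun e' => e ▸ s.norm_pre (zpowers_le.2 hl) ?_ (mem_zpowers l)⟩
  · have := s.im_norm (zpowers_le.2 hl) h.B_le (zpowers_le.2 e') (s.rho_mem (mem_zpowers l) hl)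
    rwa [e, s.im_pre (h.top.ge.trans' le_top)] at this
  · rw [s.im_zpowers hl]; exact zpowers_le.2 e'

theorem idxA : A.relIndex 𝔅 = Nat.card F := by
  have := s.card_im h.B_le
  rw [s.im_sup h.A_le h.le, (s.im_eq_bot h.A_le).2 h.ker.ge, bot_sup_eq, h.up, h.ker] at this
  rw [← this, card_upperUnipotentSL2]

theorem idxC' : A.relIndex A' = Nat.card F := by
  rw [← card_upperUnipotentSL2, ← h.up, s.card_im h.le, h.ker]

theorem idxC : A'.relIndex A = Nat.card F := by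
  rw [← card_line, ← s.relIndex_sub, ← inf_relIndex_right A', ← inf_relIndex_right (s.sub _)]
  exact congrArg (relIndex · A) (Subgroup.ext fun x => and_congr_left fun hx =>
    (h.mem_C hx).trans ⟨fun e => Sec.mem_sub.2 ⟨hx, e⟩, fun e => (Sec.mem_sub.1 e).2⟩)

theorem idxD : D.relIndex A = Nat.card F ^ 2 := by rw [s.relIndex_eq, Nat.card_fun, Nat.card_fin]

variable [Finite F]

theorem idxCD : D.relIndex ℭ = Nat.card F := by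
  have := relIndex_mul_relIndex D ℭ A h.D_le inf_le_left
  rw [inf_relIndex_left, h.idxC, h.idxD, pow_two] at this
  exact Nat.eq_of_mul_eq_mul_right Nat.card_pos this

theorem card_C : Nat.card ↥ℭ = Nat.card D * Nat.card F := by
  rw [← h.idxCD, BG.card_mul_relIndex h.D_le]

omit [Finite F] in
theorem card_A : Nat.card A = Nat.card ↥ℭ * Nat.card F := by rw [← h.idxC, card_eq_mul]

omit [Finite F] in
theorem card_A' : Nat.card A' = Nat.card A := by rw [h.card_A, ← h.idxC', inf_comm, card_eq_mul]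

omit [Finite F] in
theorem card_B : Nat.card ↥𝔅 = Nat.card A * Nat.card F := by
  rw [← h.idxA, BG.card_mul_relIndex le_sup_left]

variable [Finite G]

omit [Finite F] in
theorem eq_or (hU : IsElementaryAbelian 2 U) (h1 : U ≤ 𝔅) (h2 : Nat.card A ≤ Nat.card U) :
    U = A ∨ U = A' :=
  (h.el_le hU h1).imp (eq_of_le_of_card_le · h2) (eq_of_le_of_card_le · (h.card_A' ▸ h2))

omit [Finite F] in
theorem norm_cases (hg : g ∈ 𝐍(𝔅)) : g ∈ 𝔑 ∨ g ⋆ A = A' ∧ g ⋆ A' = A := by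
  have e1 := h.eq_or ((elab_conj g).2 h.eA) (conj_le_of_norm le_sup_left hg) (card_conj g A).ge
  have e2 := h.eq_or ((elab_conj g).2 h.eA') (conj_le_of_norm le_sup_right hg)
    (h.card_A'.symm.trans (card_conj g A').symm).le
  have e3 : g ⋆ A ≠ g ⋆ A' := fun e => h.not_le (conj_inj.1 e).le
  rcases e1 with e1 | e1 <;> rcases e2 with e2 | e2
  exacts [(e3 (e1.trans e2.symm)).elim, .inl ⟨norm_of_conj_eq e1, norm_of_conj_eq e2⟩, .inr ⟨e1, e2⟩,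
    (e3 (e1.trans e2.symm)).elim]

omit [Finite F] in
theorem swap (hg : g ∈ 𝐍(𝔅)) (h0 : g ∉ 𝐍(A)) : g ⋆ A = A' ∧ g ⋆ A' = A :=
  (h.norm_cases hg).resolve_left fun e => h0 e.1

omit [Finite F] in
theorem mem_N (hg : g ∈ 𝐍(𝔅)) (h0 : g ∈ 𝐍(A)) : g ∈ 𝔑 :=
  (h.norm_cases hg).resolve_right fun e => h.not_le ((conj_eq_of_norm h0).symm.trans e.1).le

omit [Finite F] in
theorem mem_N' (hg : g ∈ 𝐍(𝔅)) (h0 : g ∈ 𝐍(A')) : g ∈ 𝔑 :=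
  (h.norm_cases hg).resolve_right fun e => h.not_le' ((conj_eq_of_norm h0).symm.trans e.2).le

omit [Finite F] in
theorem norm_C : 𝐍(𝔅) ≤ 𝐍(ℭ) := fun g hg => (h.norm_cases hg).elim (N_le_C ·) fun e =>
  norm_of_conj_eq (by rw [conj_inf, e.1, e.2, inf_comm])

omit [Finite F] in
theorem i2 : I2 𝐍(A) 𝐍(𝔅) := fun x hx y hy a b => norm_of_conj_eq (by
  rw [← conj_conj, (h.swap hy b).1, ← (h.swap hx a).1, inv_conj_conj])

theorem inf_sw (hg : g ∈ 𝐍(𝔅)) (h0 : g ∉ 𝐍(A)) : D ⊓ g ⋆ D = ⊥ := h.sw g hg (h.swap hg h0).1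

theorem comm_le_K (hg : g ∈ 𝐍(A)) (e : ∀ x ∈ A, ⁅g, x⁆ ∈ D) : g ∈ A := by
  obtain ⟨t, -⟩ := s.exists_ext (L' := 𝐍(A)) le_rfl h.norm_D
  have h1 : ⁅L, A⁆ ≤ 𝐂[g] := commutator_le.2 fun l hl x hx => by
    have h2 : ⁅g, l⁆ ∈ A := h.ker.le ((s.mem_K_iff sl_faith).2 ⟨comm_mem_r (h.norm hg) hl,
      ((t.mem_K_iff aut_faith).1 (comm_mem_l ((t.mem_K_iff aut_faith).2 ⟨hg, e⟩) (t.norm_K (s.norm hl)))).2⟩)
    have h3 : ⁅g, l * x * l⁻¹⁆ = ⁅g, x⁆ := by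
      rw [← mul_inv_cancel_right ⁅g, x⁆ l, ← BG.mem_cent.1 (h.cD (e x hx)) l hl]
      have := el_comm h.eA h2 (s.conj_mem hl (conj_mem_of_norm hg hx))
      simp only [commutatorElement_def] at this ⊢
      calc g * (l * x * l⁻¹) * g⁻¹ * (l * x * l⁻¹)⁻¹
          = g * l * g⁻¹ * l⁻¹ * (l * (g * x * g⁻¹) * l⁻¹) * (g * l * g⁻¹ * l⁻¹)⁻¹ * (l * x * l⁻¹)⁻¹ := by group
        _ = _ := by rw [this]; group
    rw [mem_cent1, eq_comm, ← comm_eq_one, commutatorElement_def l, comm_hom h.eA hg (s.conj_mem hl hx)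
      (A.inv_mem hx), h3, el_inv h.eA hx, el_sq h.eA (comm_mem_r hg hx)]
  have h2 : D ≤ 𝐂[g] := by
    by_cases hq : 2 < Nat.card F
    · exact (h.der hq).trans (commutator_comm A A' ▸ (commutator_mono h.le le_rfl).trans h1)
    rcases h.dich with e | e
    · exact e ▸ bot_le
    intro x hx
    rcases eq_or_ne x 1 with rfl | h1
    · exact one_mem _
    obtain ⟨y, -, hy⟩ := (Nat.card_eq_two_iff' (1 : D)).1 (le_antisymm (e ▸ not_lt.1 hq) (e ▸ two_le_card))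
    have := (hy ⟨_, conj_mem_of_norm (h.norm_D hg) hx⟩ fun e => h1 (conj_eq_one_iff.1
      (congrArg Subtype.val e))).trans (hy ⟨x, hx⟩ fun e => h1 (congrArg Subtype.val e)).symm
    exact mem_cent1.2 (mul_inv_eq_iff_eq_mul.1 (congrArg Subtype.val this)).symm
  refine h.cent (le_cent1_iff.1 (((s.le_or le_rfl (h.top ▸ irr_commutator.mono le_top)
    (comm_le_right s.norm) (left_norm_comm L A)).resolve_left fun e => ?_).trans (sup_le h1 h2)))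
  obtain ⟨y, hy, hy'⟩ := SetLike.not_le_iff_exists.1 h.not_le'
  obtain ⟨x, hx, hx'⟩ := SetLike.not_le_iff_exists.1 h.not_le
  exact (h.nd (mem_sup_right hy) hx (e (commutator_mem_commutator (h.le hy) hx))).elim hy' hx'

variable [CharP F 2]

theorem mem_B_of_fix (hg : g ∈ 𝔑) {k : ℕ} (h0 : g ^ 2 ^ k = 1) (e : ∀ c ∈ ℭ, ⁅g, c⁆ ∈ D) : g ∈ 𝔅 := by
  obtain ⟨t, ht⟩ := s.exists_ext (L' := 𝐍(A)) le_rfl h.norm_D
  have e1 : t.im L = (nat F).σ.range := by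
    rw [s.im_eq t ht le_rfl s.norm, h.top, ← MonoidHom.range_eq_map]; rfl
  have e2 : t.im A' = (nat F).up := by rw [s.im_eq t ht h.le (h.le.trans s.norm), h.up]; rfl
  have k1 : ∀ X ≤ 𝐍(A), g ∈ 𝐍(X) → t.ρ g ∈ 𝐍(t.im X) := fun X h1 h2 =>
    t.im_norm (zpowers_le.2 hg.1) h1 (zpowers_le.2 h2) (t.rho_mem (mem_zpowers g) hg.1)
  obtain ⟨y, hy, hy', e3⟩ := Sec.mem_im.1 (e2.ge (SLT.mem_up_of_fix (nat F) aut_faith (fun _ _ => id)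
    (by rw [← t.rho_pow hg.1, h0, t.rho_one]) (e1 ▸ k1 L s.norm (h.norm hg.1))
    (e2 ▸ k1 A' (h.le.trans s.norm) hg.2) fun v hv => let ⟨c, hc, e4⟩ := t.surj v
      e4 ▸ (t.comm_mem_iff hg.1 hc).1 (e c ⟨hc, h.line c hc (by rw [← ht, e4]; exact hv)⟩)))
  have : y⁻¹ * g ∈ A := h.comm_le_K (mul_mem (inv_mem hy') hg.1) ((t.mem_K_iff aut_faith).1
    (Sec.mem_K.2 ⟨mul_mem (inv_mem hy') hg.1, by rw [t.rho_inv_mul hy' hg.1, e3, inv_mul_cancel]⟩)).2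
  rw [← mul_inv_cancel_left y g]
  exact mul_mem (mem_sup_right hy) (mem_sup_left this)

omit [Finite G] in
theorem le_B (hX : IsPGroup 2 X) (h1 : X ≤ L) (h2 : X ≤ 𝐍(𝔅)) : X ≤ 𝔅 := fun x hx =>
  h.mem_B.2 ⟨h1 hx, le_upper (s.pgroup_im hX) (fun _ e => let ⟨y, hy, hy', e'⟩ := Sec.mem_im.1 e
    mem_norm_upper.2 (e' ▸ (h.mem_norm_iff hy').1 (h2 hy))) (s.rho_mem hx (h1 hx))⟩

omit [Finite G] in
theorem mem_B_of_L (h1 : g ∈ L) (h2 : g ∈ 𝐍(𝔅)) {k : ℕ} (h0 : g ^ 2 ^ k = 1) : g ∈ 𝔅 :=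
  h.le_B (isPGroup_zpowers_of_pow h0) (zpowers_le.2 h1) (zpowers_le.2 h2) (mem_zpowers g)

omit [Finite G] in
/-- Distinct Sylow subgroups of `L` meet in `A`. -/
theorem le_B_of_mem (hX : IsPGroup 2 X) (h1 : X ≤ L) (hy : y ∈ X) (h2 : y ∈ 𝔅) (h3 : y ∉ A) : X ≤ 𝔅 := by
  refine h.le_B hX h1 fun x hx => (h.mem_norm_iff (h1 hx)).2 ?_
  obtain ⟨γ, e⟩ := exists_le_conj_upper (s.pgroup_im hX)
  have e1 := le_cent_iff.1 (abelian_cent ((abelian_conj γ).2 upper_comm)) _ (e (s.rho_mem hx (h1 hx))) _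
    (e (s.rho_mem hy (h1 hy)))
  rw [h.rho_B h2] at e1
  exact (eq_zero_of_xU e1).resolve_right (mt (h.mem_A_iff h2).2 h3)

end AU

end Cfsg.Lib.UQ
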