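import Cfsg.Agent.Lib.UQ.A2

/-! # The configuration `B = A A'` without local characteristic two (copy of `GC.AB3`) -/

set_option autoImplicit false

namespace Cfsg.Lib.UQ

open Subgroup Cfsg.Lib.BG Cfsg.Lib.Transfer Cfsg.Lib.Loc Cfsg.Lib.PLocal Cfsg.Lib.CGT Cfsg.Lib.PU
open Cfsg.Lib.CS Cfsg.Lib.Root Cfsg.Lib.GC
open scoped commutatorElement MatrixGroups Matrix

variable {G : Type*} [Group G] {F : Type} [Field F] {A A' D L P Q T U X Y : Subgroup G}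
  {a b c d g l n t u x y : G}

local notation "𝐔" => upperUnipotentSL2 F
local notation "𝔅" => A ⊔ A'
local notation "ℭ" => A ⊓ A'
local notation "𝔑" => 𝐍(A) ⊓ 𝐍(A')
local notation "𝔇" => ⁅L ⊓ 𝐍(A ⊔ A'), A ⊓ A'⁆

namespace AU

variable {s : Sec SL(2, F) (Fin 2 → F) L A D} (h : AU s A')
include h

theorem cmA (hy : y ∈ 𝔅) (hy' : b ∈ 𝔅) (hx : x ∈ 𝔅) : ⁅y * b, x⁆ = ⁅y, x⁆ * ⁅b, x⁆ := by
  rw [comm_mul_l, h.C_comm (h.cm_B hy' hx) hy, mul_inv_cancel_right, el_comm h.eC (h.cm_B hy' hx) (h.cm_B hy hx)]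

theorem cmA' (hy : y ∈ 𝔅) (hy' : b ∈ 𝔅) (hx : x ∈ 𝔅) : ⁅x, y * b⁆ = ⁅x, y⁆ * ⁅x, b⁆ := by
  rw [comm_mul_r, h.C_comm (h.cm_B hx hy') hy, mul_inv_cancel_right]

theorem cm_C (hc : c ∈ ℭ) (hx : x ∈ 𝔅) : ⁅c, x⁆ = 1 := comm_eq_one.2 (h.C_comm hc hx).symm
theorem cm_C' (hc : c ∈ ℭ) (hx : x ∈ 𝔅) : ⁅x, c⁆ = 1 := comm_eq_one.2 (h.C_comm hc hx)

theorem cm_congr (hy : y ∈ 𝔅) (hx : x ∈ 𝔅) (e : y⁻¹ * b ∈ ℭ) : ⁅b, x⁆ = ⁅y, x⁆ := by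
  rw [← mul_inv_cancel_left y b, h.cmA hy (mem_sup_left e.1) hx, h.cm_C e hx, mul_one]

theorem cm_congr' (hy : y ∈ 𝔅) (hx : x ∈ 𝔅) (e : y⁻¹ * b ∈ ℭ) : ⁅x, b⁆ = ⁅x, y⁆ := by
  rw [← mul_inv_cancel_left y b, h.cmA' hy (mem_sup_left e.1) hx, h.cm_C' e hx, mul_one]

theorem psi_tor (hl : l ∈ L) (hc : c ∈ ℭ) : s.ψ (l * c * l⁻¹) 0 = s.ρ l 0 0 * s.ψ c 0 := by
  rw [s.conj l hl c hc.1, sl_smul, mulVec_apply_zero, (h.mem_C hc.1).1 hc.2, mul_zero, add_zero]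

theorem exists_tor {k : F} (hk : k ≠ 0) : ∃ l ∈ L ⊓ 𝐍(𝔅), s.ρ l = dS hk :=
  let ⟨l, hl, e⟩ := h.exists_L (dS hk); ⟨l, ⟨hl, (h.mem_norm_iff hl).2 (by rw [e]; rfl)⟩, e⟩

variable [Finite G] [Finite F]

omit [Finite F] in
theorem Ds_le : 𝔇 ≤ ℭ := comm_le_right (inf_le_right.trans h.norm_C)

theorem compl (hq : 2 < Nat.card F) : D ⊓ 𝔇 = ⊥ ∧ ∀ c ∈ ℭ, ∃ d ∈ D, d⁻¹ * c ∈ 𝔇 := by
  obtain ⟨k, h0, h1⟩ := exists_ne_zero_one hq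
  obtain ⟨l, hl, e⟩ := h.exists_tor h0
  have n1 := h.norm_C hl.2
  have k1 : ∀ c ∈ ℭ, s.ψ ⁅l, c⁆ 0 = (k - 1) * s.ψ c 0 := fun c hc => by
    rw [commutatorElement_def, h.psi_add (conj_mem_of_norm n1 hc).1 (A.inv_mem hc.1), h.psi_tor hl.1 hc,
      s.psi_inv hc.1, e, sub_mul, one_mul, sub_eq_add_neg]; rfl
  have k2 : ∀ c ∈ ℭ, ∃ c' ∈ ℭ, c * ⁅l, c'⁆⁻¹ ∈ D := fun c hc => by
    obtain ⟨c', hc', e'⟩ := h.exists_C (s.ψ c 0 / (k - 1))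
    have := comm_mem_r n1 hc'
    exact ⟨c', hc', (h.mem_D (mul_mem hc (inv_mem this))).2 (by
      rw [h.psi_add hc.1 (A.inv_mem this.1), s.psi_inv this.1, Pi.neg_apply, k1 c' hc', e',
        mul_div_cancel₀ _ (sub_ne_zero.2 h1), add_neg_cancel])⟩
  refine ⟨eq_bot_iff.2 fun d hd => ?_, fun c hc => let ⟨c', hc', e'⟩ := k2 c hc; ⟨_, e', by
    simpa [mul_assoc] using commutator_mem_commutator hl hc'⟩⟩
  obtain ⟨c, rfl⟩ : d ∈ (cmHom h.eC n1).range := by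
    refine (commutator_le.2 fun g hg c hc => ?_ : 𝔇 ≤ _) hd.2
    obtain ⟨c', hc', e'⟩ := k2 c hc
    have n2 := h.norm_C hg.2
    refine ⟨⟨⁅g, c'⁆, comm_mem_r n2 hc'⟩, ?_⟩
    have e1 := h.C_comm (conj_mem_of_norm (mul_mem n2 n1) hc') (h.mem_B.2 ⟨comm_mem_r (le_norm L hl.1) hg.1,
      s.rho_comm hl.1 hg.1 ▸ comm_mem_upper ((h.mem_norm_iff hl.1).1 hl.2) ((h.mem_norm_iff hg.1).1 hg.2)⟩)
    have e2 : l * (g * c' * g⁻¹) * l⁻¹ = g * (l * c' * l⁻¹) * g⁻¹ := by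
      rw [← mul_inv_eq_iff_eq_mul] at e1
      rw [show g * (l * c' * l⁻¹) * g⁻¹ = g * l * c' * (g * l)⁻¹ by group, ← e1, commutatorElement_def]; group
    show ⁅l, ⁅g, c'⁆⁆ = ⁅g, c⁆
    have a1 := conj_mem_of_norm n1 hc'
    have a2 := conj_mem_of_norm n2 hc'
    rw [← inv_mul_cancel_right c ⁅l, c'⁆, comm_hom h.eC n2 (h.D_le e') (comm_mem_r n1 hc'),
      comm_eq_one.2 (BG.mem_cent.1 (h.cD e') g hg.1), one_mul, commutatorElement_def g c',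
      commutatorElement_def l c', comm_hom h.eC n1 a2 (inv_mem hc'), comm_hom h.eC n2 a1 (inv_mem hc'),
      el_inv h.eC hc', commutatorElement_def, commutatorElement_def, commutatorElement_def,
      commutatorElement_def, e2, el_inv h.eC a1, el_inv h.eC a2, mul_assoc _ (g * c' * g⁻¹),
      mul_assoc _ (l * c' * l⁻¹) (g * c' * g⁻¹ * c'⁻¹), ← mul_assoc (g * c' * g⁻¹), el_comm h.eC a2 a1,
      mul_assoc (l * c' * l⁻¹)]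
  have := k1 c c.2
  rw [show ⁅l, (c : G)⁆ = cmHom h.eC n1 c from rfl, s.psi_eq_zero hd.1] at this
  exact comm_eq_one.2 (BG.mem_cent.1 (h.cD ((h.mem_D c.2).2
    ((mul_eq_zero.1 this.symm).resolve_left (sub_ne_zero.2 h1)))) l hl.1)

theorem Ds_surj (hq : 2 < Nat.card F) (hx : x ∈ A) (h0 : x ∉ A') (hd : d ∈ D) :
    ∃ y ∈ A', d⁻¹ * ⁅y, x⁆ ∈ 𝔇 := by
  let f : A' →* G := MonoidHom.mk' (fun y => ⁅(y : G), x⁆) fun a b =>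
    h.cmA (mem_sup_right a.2) (mem_sup_right b.2) (mem_sup_left hx)
  have r : f.range ≤ ℭ := by rintro _ ⟨y, rfl⟩; exact h.cm_mem (mem_sup_right y.2) hx
  have : ⁅A', A⁆ ≤ f.range ⊔ 𝔇 := commutator_le.2 fun y hy a ha => by
    by_cases e : a ∈ A'
    · exact comm_eq_one.2 (el_comm h.eA' hy e) ▸ one_mem _
    have h1 := mt (h.mem_C hx).2 h0
    obtain ⟨l, hl, e1⟩ := h.exists_tor (div_ne_zero (mt (h.mem_C ha).2 e) h1)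
    have n1 := h.mem_N hl.2 (s.norm hl.1)
    have a1 := conj_mem_of_norm n1.1 ha
    have a2 : x⁻¹ * (l * a * l⁻¹) ∈ ℭ := ⟨A.mul_mem (A.inv_mem hx) a1, (h.mem_C (mul_mem (inv_mem hx) a1)).2 (by
      rw [h.psi_add (inv_mem hx) a1, s.psi_inv hx, s.conj l hl.1 a ha, e1, sl_smul, dS_mulVec]
      simp [mt (h.mem_C ha).2 e])⟩
    have a3 := h.cm_mem (mem_sup_right hy) ha
    rw [← inv_mul_cancel_left ⁅l, ⁅y, a⁆⁆ ⁅y, a⁆]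
    refine mul_mem (mem_sup_right (inv_mem (commutator_mem_commutator hl a3))) (mem_sup_left ?_)
    rw [commutatorElement_def l, inv_mul_cancel_right, conj_cm,
      h.cm_congr' (mem_sup_left hx) (mem_sup_right (conj_mem_of_norm n1.2 hy)) a2]
    exact ⟨⟨_, conj_mem_of_norm n1.2 hy⟩, rfl⟩
  obtain ⟨_, ⟨y, rfl⟩, z, hz, e⟩ := (mem_sup_right_norm (r.trans (abelian_norm h.eC.1 h.Ds_le))).1
    (this (commutator_comm A A' ▸ h.der hq hd))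
  exact ⟨y, y.2, by rw [← e, mul_inv_rev, mul_assoc]; exact mul_mem (inv_mem hz) (inv_mul_cancel (f y) ▸ one_mem _)⟩

theorem Ds_inj (hq : 2 < Nat.card F) (hD : D ≠ ⊥) (hx : x ∈ A) (h0 : x ∉ A') (hy : y ∈ A')
    (e : ⁅y, x⁆ ∈ 𝔇) : y ∈ A := by
  choose f f1 f2 using fun d : D => h.Ds_surj hq hx h0 d.2
  have k : ∀ y ∈ A', ∀ d : D, s.ρ (f d) 0 1 = s.ρ y 0 1 → (d : G)⁻¹ * ⁅y, x⁆ ∈ 𝔇 := fun y hy d e => by
    have a1 := mul_mem (inv_mem (f1 d)) hy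
    rw [h.cm_congr (mem_sup_right (f1 d)) (mem_sup_left hx) ⟨(h.mem_A_iff (mem_sup_right a1)).2 ?_, a1⟩]
    · exact f2 d
    have := h.tau_mul (mem_sup_right (f1 d)) (mem_sup_right a1)
    rwa [mul_inv_cancel_left, e, left_eq_add] at this
  have k1 : ∀ y ∈ A', ∀ d d' : D, s.ρ (f d) 0 1 = s.ρ y 0 1 → (d' : G)⁻¹ * ⁅y, x⁆ ∈ 𝔇 → d = d' :=
    fun y hy d d' e e' => Subtype.ext (inv_mul_eq_one.1 ((h.compl hq).1.le ⟨D.mul_mem (D.inv_mem d.2) d'.2, by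
      have := mul_mem (k y hy d e) (inv_mem e')
      rwa [mul_inv_rev, inv_inv, mul_assoc, mul_inv_cancel_left] at this⟩))
  have hb : Function.Surjective fun d => s.ρ (f d) 0 1 := ((Nat.bijective_iff_injective_and_card _).2
    ⟨fun d d' e => k1 _ (f1 d') d d' e (f2 d'), h.dich.resolve_left hD⟩).2
  obtain ⟨d, hd⟩ := hb (s.ρ y 0 1)
  obtain ⟨d', hd'⟩ := hb (s.ρ 1 0 1)
  rw [k1 y hy d 1 hd (by simpa using e)] at hd
  rw [k1 1 (one_mem _) d' 1 hd' (by simp)] at hd'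
  exact (h.mem_A_iff (mem_sup_right hy)).2 (hd.symm.trans (hd'.trans (by rw [s.rho_one]; rfl)))

variable [CharP F 2]

theorem exists_fix (hu : Fld A A' u) : ∃ x ∈ A, x ∉ A' ∧ ⁅u, x⁆ ∈ ℭ := by
  obtain ⟨x, hx, hx'⟩ := SetLike.not_le_iff_exists.1 h.not_le
  by_cases e : ⁅u, x⁆ ∈ A'
  · exact ⟨x, hx, hx', comm_mem_r hu.mem.1 hx, e⟩
  refine ⟨_, comm_mem_r hu.mem.1 hx, e, ?_⟩
  have := h.cm_mem hu.sq hx
  rw [comm_mul_l, ← inv_mul_cancel_right (u * _ * u⁻¹) ⁅u, x⁆, el_inv h.eA (comm_mem_r hu.mem.1 hx)] at this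
  rwa [commutatorElement_def u ⁅u, x⁆, el_inv h.eA (comm_mem_r hu.mem.1 hx), ← mul_inv_cancel_right (_ * _ : G) ⁅u, x⁆,
    el_inv h.eA (comm_mem_r hu.mem.1 hx)]

theorem fr_D (hu : Fld A A' u) : Fr u D ⊥ := fun d hd e => by
  rcases eq_or_ne D ⊥ with h0 | h0
  · exact ⟨1, one_mem _, by simp [mem_bot.1 (h0.le hd)]⟩
  obtain ⟨hq, -, f2, -⟩ := h.fr hu
  obtain ⟨x, hx, hx', e1⟩ := h.exists_fix hu
  have n1 : u ∈ 𝐍(𝔇) := norm_comm (norm_inf (inf_le_left.trans h.norm) (norm_norm N_le)) N_le_C hu.mem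
  have bx := mem_sup_left (T := A') hx
  have k : ∀ y ∈ A', ⁅u, ⁅y, x⁆⁆ = ⁅⁅u, y⁆, x⁆ := fun y hy => by
    have a1 := mem_sup_right (S := A) (conj_mem_of_norm hu.mem.2 hy)
    rw [commutatorElement_def u, conj_cm, h.cm_congr' bx a1 (b := u * x * u⁻¹), commutatorElement_def u,
      h.cmA a1 (inv_mem (mem_sup_right hy)) bx, el_inv h.eA' hy, el_inv h.eC (h.cm_mem (mem_sup_right hy) hx)]
    rwa [el_comm h.eA (inv_mem hx) (conj_mem_of_norm hu.mem.1 hx)]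
  obtain ⟨y, hy, e2⟩ := h.Ds_surj hq hx hx' hd
  have a1 := comm_mem_r hu.mem.2 hy
  obtain ⟨y', hy', e3⟩ := f2 y hy ⟨h.Ds_inj hq h0 hx hx' a1 (by
    have := comm_mem_r n1 e2
    rwa [comm_hom h.eC (N_le_C hu.mem) (inv_mem (h.D_le hd)) (h.cm_mem (mem_sup_right hy) hx),
      el_inv h.eC (h.D_le hd), mem_bot.1 e, one_mul, k y hy] at this), a1⟩
  have a2 := h.cm_mem (mem_sup_right hy') hx
  obtain ⟨d', hd', e4⟩ := (h.compl hq).2 _ a2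
  refine ⟨d', hd', (h.compl hq).1.le ⟨D.mul_mem (D.inv_mem hd) (comm_mem_r (h.norm_D hu.mem.1) hd'), ?_⟩⟩
  have := mul_mem e2 (inv_mem (comm_mem_r n1 e4))
  rwa [← h.cm_congr (mem_sup_right hy) bx e3, ← k y' hy', ← mul_inv_cancel_left d' ⁅y', x⁆,
    comm_hom h.eC (N_le_C hu.mem) (h.D_le hd') (h.Ds_le e4), mul_inv_cancel_left, ← mul_assoc,
    mul_inv_cancel_right] at this

theorem fr_C' (hu : Fld A A' u) : Fr u ℭ ⊥ :=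
  Fr.trans h.eC (N_le_C hu.mem) (cent_symm h.C_cent hu.sq) h.D_le bot_le (h.fr hu).2.2.2 (h.fr_D hu)

theorem fr_A (hu : Fld A A' u) (h1 : u * u ∈ A) : Fr u A ⊥ :=
  Fr.trans h.eA hu.mem.1 (abelian_cent h.eA.1 h1) inf_le_left bot_le (h.fr hu).2.1 (h.fr_C' hu)

theorem fr_A' (hu : Fld A A' u) (h1 : u * u ∈ A') : Fr u A' ⊥ :=
  Fr.trans h.eA' hu.mem.2 (abelian_cent h.eA'.1 h1) inf_le_right bot_le (h.fr hu).2.2.1 (h.fr_C' hu)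

theorem exists_sq (hu : Fld A A' u) : ∃ b ∈ 𝔅, u * b * (u * b) ∈ A := by
  obtain ⟨a, ha, a', ha', e⟩ := h.exists_mul hu.sq
  obtain ⟨y, hy, e1⟩ := (h.fr hu).2.2.1 a' ha' ⟨by
    have : ⁅u, a * a'⁆ = 1 := by rw [e, comm_eq_one, mul_assoc]
    rw [comm_mul_r, mul_eq_one_iff_inv_eq] at this
    exact (mem_normalizer_iff.1 (le_norm A ha) _).2 (this ▸ inv_mem (comm_mem_r hu.mem.1 ha)),
    comm_mem_r hu.mem.2 ha'⟩
  refine ⟨y, mem_sup_right hy, ?_⟩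
  have a1 := conj_mem_of_norm hu.mem.2 hy
  rw [show u * y * (u * y) = u * y * u⁻¹ * (u * u) * y by group, ← e, show u * y * u⁻¹ * (a * a') * y =
    u * y * u⁻¹ * a * (u * y * u⁻¹)⁻¹ * (u * y * u⁻¹ * a' * y) by group, el_comm h.eA' a1 ha']
  refine mul_mem (conj_mem_of_norm (h.nA (mem_sup_right a1)) ha) ?_
  rw [commutatorElement_def, el_inv h.eA' ha', el_inv h.eA' hy, ← mul_assoc] at e1
  exact e1.1

/-- Field automorphisms of order two are induced by involutions. -/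
theorem exists_inv (hu : Fld A A' u) : ∃ b ∈ 𝔅, Fld A A' (u * b) ∧ u * b * (u * b) = 1 := by
  obtain ⟨b, hb, e⟩ := h.exists_sq hu
  have h1 := hu.mul hb h.B_le_N
  obtain ⟨x, hx, e1⟩ := h.fr_A h1 e _ e (comm_eq_one.2 (mul_assoc _ _ _).symm)
  refine ⟨b * x, mul_mem hb (mem_sup_left hx), mul_assoc u b x ▸ h1.mul (mem_sup_left hx) h.B_le_N, ?_⟩
  rw [← mul_assoc u b x]
  generalize u * b = v at *
  rw [show v * x * (v * x) = v * x * v⁻¹ * (v * v) * x by group,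
    el_comm h.eA (conj_mem_of_norm h1.mem.1 hx) e, inv_mul_eq_one.1 e1, commutatorElement_def, el_inv h.eA hx,
    mul_assoc, el_sq h.eA (mul_mem (conj_mem_of_norm h1.mem.1 hx) hx)]

theorem exists_inv' (hX : IsPGroup 2 X) (h1 : 𝔅 ≤ X) (h2 : X ≤ 𝔑) (h3 : ¬ X ≤ 𝔅) :
    ∃ u ∈ X, Fld A A' u ∧ u * u = 1 := by
  obtain ⟨g, hg, hg'⟩ := SetLike.not_le_iff_exists.1 h3
  obtain ⟨k, hk⟩ := hX ⟨g, hg⟩
  obtain ⟨j, hj⟩ := exists_fld (h2 hg) hg' (congrArg Subtype.val hk)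
  obtain ⟨b, hb, e⟩ := h.exists_inv hj
  exact ⟨_, mul_mem (pow_mem hg _) (h1 hb), e⟩

theorem card_cA (hu : Fld A A' u) (h1 : u * u ∈ A) : Nat.card ↥(A ⊓ 𝐂[u]) ^ 2 = Nat.card A :=
  (h.fr_A hu h1).card h.eA hu.mem.1 (abelian_cent h.eA.1 h1)

theorem card_cA' (hu : Fld A A' u) (h1 : u * u ∈ A') : Nat.card ↥(A' ⊓ 𝐂[u]) ^ 2 = Nat.card A :=
  ((h.fr_A' hu h1).card h.eA' hu.mem.2 (abelian_cent h.eA'.1 h1)).trans h.card_A'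

theorem card_cC (hu : Fld A A' u) : Nat.card ↥(ℭ ⊓ 𝐂[u]) ^ 2 = Nat.card ↥ℭ :=
  (h.fr_C' hu).card h.eC (N_le_C hu.mem) (cent_symm h.C_cent hu.sq)

end AU

end Cfsg.Lib.UQ
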