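import Cfsg.Agent.Lib.UQ.A3

/-! # The configuration `B = A A'` without local characteristic two (copy of `GC.O1`) -/

set_option autoImplicit false

namespace Cfsg.Lib.UQ

open Subgroup Cfsg.Lib.BG Cfsg.Lib.Transfer Cfsg.Lib.Loc Cfsg.Lib.PLocal Cfsg.Lib.CGT Cfsg.Lib.PU
open Cfsg.Lib.CS Cfsg.Lib.Root Cfsg.Lib.GC
open scoped commutatorElement MatrixGroups Matrix

variable {G : Type*} [Group G] {F : Type} [Field F] {A A' D E H K L P Q R T U V X Y Z : Subgroup G}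
  {a b c d f g k l m n t u v w x y z : G}

local notation "𝔅" => A ⊔ A'
local notation "ℭ" => A ⊓ A'
local notation "𝔑" => 𝐍(A) ⊓ 𝐍(A')

namespace AU

variable {s : Sec SL(2, F) (Fin 2 → F) L A D} (h : AU s A')
include h

theorem bigA : Big A A := ⟨h.eA, le_rfl⟩
theorem bigA' : Big A A' := ⟨h.eA', h.card_A'.ge⟩
theorem eD : IsElementaryAbelian 2 D := elab_of_le h.eA s.le

theorem not_C_le : ¬ ℭ ≤ D := fun e => by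
  obtain ⟨c, hc, e'⟩ := h.exists_C 1
  exact one_ne_zero (e'.symm.trans ((h.mem_D hc).1 (e hc)))

theorem exists_big (hU : IsElementaryAbelian 2 U) (h1 : U ≤ 𝔅) : ∃ E, Big A E ∧ U ≤ E :=
  (h.el_le hU h1).elim (⟨_, h.bigA, ·⟩) (⟨_, h.bigA', ·⟩)

theorem cm_ne (hx : x ∈ A) (h1 : x ∉ A') (hy : y ∈ A') (h2 : y ∉ A) : ⁅x, y⁆ ≠ 1 := fun e =>
  (h.nd' (mem_sup_right hy) hx (comm_eq_one.1 e).symm).elim h2 h1

variable [Finite G]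

theorem swA (ht : t ∈ 𝐍(𝔅)) (h0 : t ∉ 𝐍(A)) (ha : a ∈ A) : t * a * t⁻¹ ∈ A' :=
  (h.swap ht h0).1.le (conj_mem_conj.2 ha)

theorem swA' (ht : t ∈ 𝐍(𝔅)) (h0 : t ∉ 𝐍(A)) (ha : a ∈ A') : t * a * t⁻¹ ∈ A :=
  (h.swap ht h0).2.le (conj_mem_conj.2 ha)

theorem sw_mem (ht : t ∈ 𝐍(𝔅)) (h0 : t ∉ 𝐍(A)) (ha : t * a * t⁻¹ ∈ A) : a ∈ A' :=
  conj_mem_conj.1 ((h.swap ht h0).2.ge ha)

theorem mem_C_of_sw (ht : t ∈ 𝐍(𝔅)) (h0 : t ∉ 𝐍(A)) (hb : b ∈ 𝔅) (e : b * b = 1) (c : t * b = b * t) :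
    b ∈ ℭ := by
  have e1 := mul_inv_eq_of_eq_mul c
  exact (h.inv_cases hb e).elim (fun e => ⟨e, e1 ▸ h.swA ht h0 e⟩) fun e => ⟨e1 ▸ h.swA' ht h0 e, e⟩

theorem symm (ht : t ∈ 𝐍(𝔅)) (h0 : t ∉ 𝐍(A)) :
    ∃ s' : Sec SL(2, F) (Fin 2 → F) (t ⋆ L) A' (t ⋆ D), AU s' A :=
  h.conj' (h.swap ht h0).1 (h.swap ht h0).2

variable [Finite F]

theorem D_sw (ht : t ∈ 𝐍(𝔅)) (h0 : t ∉ 𝐍(A)) (hd : d ∈ D) (c : d ∈ 𝐂[t]) : d = 1 :=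
  (h.inf_sw ht h0).le ⟨hd, mul_inv_eq_of_eq_mul (mem_cent1.1 c).symm ▸ conj_mem_conj.2 hd⟩

theorem card_Ct (ht : t ∈ 𝐍(𝔅)) (h0 : t ∉ 𝐍(A)) : Nat.card ↥(ℭ ⊓ 𝐂[t]) ≤ Nat.card F := by
  have := card_mul_le (X := ℭ ⊓ 𝐂[t]) inf_le_left h.D_le
    (eq_bot_iff.2 fun d hd => h.D_sw ht h0 hd.2 hd.1.2)
  rw [h.card_C, mul_comm] at this
  exact Nat.le_of_mul_le_mul_left this Nat.card_pos

omit [Finite G] in
theorem card_A2 : Nat.card A = Nat.card D * Nat.card F ^ 2 := by rw [h.card_A, h.card_C, mul_assoc, pow_two]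

theorem sq_le : Nat.card F ^ 2 ≤ Nat.card A := h.card_A2 ▸ Nat.le_mul_of_pos_left _ Nat.card_pos

variable [CharP F 2]

theorem card_cD (hu : Fld A A' u) : Nat.card ↥(D ⊓ 𝐂[u]) ^ 2 = Nat.card D :=
  (h.fr_D hu).card h.eD (h.norm_D hu.mem.1) (cent_anti h.D_le (cent_symm h.C_cent hu.sq))

theorem fld_four (hu : Fld A A' u) : 4 ≤ Nat.card F := four_le (h.fr hu).1

theorem fld_big (hu : Fld A A' u) : 16 ≤ Nat.card A :=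
  (Nat.pow_le_pow_left (h.fld_four hu) 2).trans h.sq_le

theorem exists_xu (hu : Fld A A' u) (h2 : u * u = 1) : ∃ x ∈ A ⊓ 𝐂[u], x ∉ A' :=
  let ⟨x, hx, e⟩ := (h.fr hu).2.1.exists_fix (fun e => h.not_le (e.trans inf_le_right)) h.eA hu.mem.1 h2
  ⟨x, hx, fun e' => e ⟨hx.1, e'⟩⟩

theorem exists_yu (hu : Fld A A' u) (h2 : u * u = 1) : ∃ x ∈ A' ⊓ 𝐂[u], x ∉ A :=
  let ⟨x, hx, e⟩ := (h.fr hu).2.2.1.exists_fix (fun e => h.not_le' (e.trans inf_le_left)) h.eA' hu.mem.2 h2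
  ⟨x, hx, fun e' => e ⟨e', hx.1⟩⟩

theorem exists_cu (hu : Fld A A' u) (h2 : u * u = 1) : ∃ c ∈ ℭ ⊓ 𝐂[u], c ∉ D :=
  (h.fr hu).2.2.2.exists_fix h.not_C_le h.eC (N_le_C hu.mem) h2

theorem bound_N (hU : IsElementaryAbelian 2 U) (hu : u ∈ U) (f : Fld A A' u) : ∃ E, Big A E ∧ E ≤ 𝔅 ∧
    u ∈ 𝐍(E) ∧ U ⊓ 𝔅 ≤ E ⊓ 𝐂[u] ∧ Nat.card ↥(E ⊓ 𝐂[u]) ^ 2 = Nat.card A := by
  have h1 : U ⊓ 𝔅 ≤ 𝐂[u] := fun x hx => mem_cent1.2 (el_comm hU hx.1 hu)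
  rcases h.el_le (elab_of_le hU inf_le_left) inf_le_right with e | e
  · exact ⟨A, h.bigA, le_sup_left, f.mem.1, le_inf e h1, h.card_cA f (el_sq hU hu ▸ one_mem _)⟩
  · exact ⟨A', h.bigA', le_sup_right, f.mem.2, le_inf e h1, h.card_cA' f (el_sq hU hu ▸ one_mem _)⟩

omit [Finite F] [CharP F 2] in
theorem le_N (h1 : U ≤ 𝐍(𝔅)) (h2 : U ≤ 𝐍(A)) : U ≤ 𝔑 := fun _ hx => h.mem_N (h1 hx) (h2 hx)

omit [Finite F] [CharP F 2] in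
theorem sw_inf (hU : IsElementaryAbelian 2 U) (h1 : U ≤ 𝐍(𝔅)) (ht : t ∈ U) (h0 : t ∉ 𝐍(A)) :
    U ⊓ 𝔅 ≤ ℭ ⊓ 𝐂[t] := fun _ hx => ⟨h.mem_C_of_sw (h1 ht) h0 hx.2 (el_sq hU hx.1) (el_comm hU ht hx.1),
  mem_cent1.2 (el_comm hU hx.1 ht)⟩

theorem bound_sw (hU : IsElementaryAbelian 2 U) (h1 : U ≤ 𝐍(𝔅)) (ht : t ∈ U) (h0 : t ∉ 𝐍(A)) :
    (I2 𝔅 U ∧ Nat.card U ≤ 2 * Nat.card F) ∨ Nat.card U ^ 2 ≤ 16 * Nat.card F ∧ 4 ≤ Nat.card F := by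
  have i1 : I2 𝐍(A) U := h.i2.mono h1 inf_le_right
  have h2 := h.sw_inf hU h1 ht h0
  by_cases e : U ⊓ 𝐍(A) ≤ 𝔅
  · have i2 := i1.mono le_rfl e
    exact .inl ⟨i2, i2.card_le.trans (Nat.mul_le_mul_left 2 ((card_le_of_le h2).trans (h.card_Ct (h1 ht) h0)))⟩
  obtain ⟨u, hu, hu'⟩ := SetLike.not_le_iff_exists.1 e
  have n := h.le_N (U := U ⊓ 𝐍(A)) (inf_le_left.trans h1) inf_le_right
  have f := fld_of (n hu) hu' (el_sq hU hu.1)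
  have c1 := i1.card_le
  have c2 := (h.i2_el (elab_of_le hU inf_le_left) n).card_le
  have c3 := Nat.pow_le_pow_left (card_mul_le (X := U ⊓ 𝐍(A) ⊓ 𝔅) (Y := D ⊓ 𝐂[u]) (K := ℭ ⊓ 𝐂[u])
    (fun x hx => ⟨(h2 ⟨hx.1.1, hx.2⟩).1, mem_cent1.2 (el_comm hU hx.1.1 hu.1)⟩) (inf_le_inf_right _ h.D_le)
    (eq_bot_iff.2 fun d hd => h.D_sw (h1 ht) h0 hd.2.1 (h2 ⟨hd.1.1.1, hd.1.2⟩).2)) 2
  rw [mul_pow, h.card_cD f, h.card_cC f, h.card_C, mul_comm] at c3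
  have c4 := Nat.le_of_mul_le_mul_left c3 Nat.card_pos
  exact .inr ⟨(Nat.pow_le_pow_left (c1.trans (Nat.mul_le_mul_left 2 c2)) 2).trans (by nlinarith), h.fld_four f⟩

theorem bound (hU : IsElementaryAbelian 2 U) (h1 : U ≤ 𝐍(𝔅)) (h2 : ¬ U ≤ 𝔅) :
    Nat.card U ^ 2 ≤ 4 * Nat.card A := by
  have := h.sq_le
  by_cases e : U ≤ 𝐍(A)
  · obtain ⟨u, hu, hu'⟩ := SetLike.not_le_iff_exists.1 h2
    obtain ⟨E, -, -, -, h3, h4⟩ := h.bound_N hU hu (fld_of (h.le_N h1 e hu) hu' (el_sq hU hu))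
    have := Nat.pow_le_pow_left ((h.i2_el hU (h.le_N h1 e)).card_le.trans
      (Nat.mul_le_mul_left 2 (card_le_of_le h3))) 2
    rwa [mul_pow, h4] at this
  obtain ⟨t, ht, h0⟩ := SetLike.not_le_iff_exists.1 e
  rcases h.bound_sw hU h1 ht h0 with ⟨-, e⟩ | ⟨e, e'⟩ <;> nlinarith

theorem half_le (h16 : 16 < Nat.card A) (hU : IsElementaryAbelian 2 U) (h1 : U ≤ 𝐍(𝔅))
    (h2 : Nat.card A ≤ 2 * Nat.card U) : U ≤ 𝔅 := by_contra fun e => by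
  have := h.bound hU h1 e
  nlinarith

variable (h4 : 4 < Nat.card A)
include h4

theorem big_eq (hE : Big A E) (h1 : E ≤ 𝐍(𝔅)) : E = A ∨ E = A' :=
  h.eq_or hE.el (by_contra fun e => by
    have := h.bound hE.el h1 e
    have := hE.le
    nlinarith) hE.le

theorem big_le (hE : Big A E) (h1 : E ≤ 𝐍(𝔅)) : E ≤ 𝔅 :=
  (h.big_eq h4 hE h1).elim (·.le.trans le_sup_left) (·.le.trans le_sup_right)

theorem conj_B (h1 : g ⋆ (𝔅) ≤ 𝐍(𝔅)) : g ∈ 𝐍(𝔅) := mem_normalizer_of_conj_le (conj_sup g A A' ▸ sup_le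
  (h.big_le h4 (h.bigA.conj g) ((conj_mono g le_sup_left).trans h1))
  (h.big_le h4 (h.bigA'.conj g) ((conj_mono g le_sup_right).trans h1)))

theorem wc : WC 2 (𝔅) := wc_of_comm h.pB fun _ _ e => conj_eq_of_norm (h.conj_B h4 e)

theorem le_NB (hP : IsPGroup 2 P) (h1 : 𝔅 ≤ P) : P ≤ 𝐍(𝔅) := (h.wc h4).le_norm hP h1

theorem exists_conj (hP : IsPGroup 2 P) (h1 : P ≤ K) (h2 : 𝔅 ≤ K) : ∃ g ∈ K, g ⋆ P ≤ 𝐍(𝔅) := by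
  obtain ⟨S, hS, h3⟩ := Syl.exists_ge h.pB h2
  obtain ⟨g, hg, h5⟩ := hS.exists_conj_le hP h1
  exact ⟨g, hg, h5.trans (h.le_NB h4 hS.pgroup h3)⟩

theorem big_L (hE : Big A E) (h1 : E ≤ 𝐍(A)) : E ≤ L := by
  obtain ⟨g, hg, e⟩ := h.exists_conj h4 hE.pg h1 h.nA
  rw [← conj_le_conj_iff (g := g), conj_eq_of_norm (h.norm hg)]
  exact (h.big_le h4 (hE.conj g) e).trans h.B_le

omit h4 in
theorem norm_of_c (hc : c ∈ ℭ) (hd : c ∉ D) : 𝐍(A) ⊓ 𝐂[c] ≤ 𝔑 := fun g hg => by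
  have h1 := (conj_mono g h.B_le).trans (conj_eq_of_norm (h.norm hg.1)).le
  refine h.mem_N (mem_normalizer_of_conj_le (h.le_B (isPGroup_conj h.pB g) h1 fun l hl =>
    (h.mem_norm_iff (h1 hl)).2 (by_contra fun e => hd (h.mem_D_of_conj (h1 hl) e hc ?_)))) hg.1
  have : l ∈ 𝐂[c] := (conj_le_of_mem (cent_symm h.C_cent |>.trans (cent_le_cent1 hc)) hg.2) hl
  rw [mem_cent1.1 this, mul_inv_cancel_right]
  exact hc.2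

theorem big_cent (hc : c ∈ ℭ) (hd : c ∉ D) (hx : x ∈ A) (h0 : x ∉ A') (hE : Big A E) (h1 : E ≤ 𝐂[c])
    (h2 : E ≤ 𝐂[x]) (hP : IsPGroup 2 ↥(A ⊔ E)) : E = A := by
  obtain ⟨g, -, e⟩ := h.exists_conj h4 hP le_top le_top
  have h3 : E ≤ 𝐍(A) := by
    rw [← conj_le_conj_iff (g := g), conj_normalizer]
    refine (h.big_le h4 (hE.conj g) ((conj_mono g le_sup_right).trans e)).trans ?_
    rcases h.big_eq h4 (h.bigA.conj g) ((conj_mono g le_sup_left).trans e) with e | e <;> rw [e]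
    exacts [h.nA, h.nA']
  refine (h.big_eq h4 hE (((le_inf h3 h1).trans (h.norm_of_c hc hd)).trans N_le)).resolve_right fun e => ?_
  obtain ⟨y, hy, hy'⟩ := SetLike.not_le_iff_exists.1 h.not_le'
  exact (h.nd' (mem_sup_right hy) hx (mem_cent1.1 (h2 (e.ge hy)))).elim hy' h0

theorem extremal (hT : Syl 2 T ⊤) (hB : 𝔅 ≤ T) (h2 : u * u = 1) (hg : g * u * g⁻¹ ∈ 𝔅) (hP : IsPGroup 2 P)
    (h1 : P ≤ 𝐂[u]) : ∃ k, k * u * k⁻¹ ∈ 𝔅 ∧ k ⋆ P ≤ T := by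
  obtain ⟨E, hE, e⟩ := h.exists_big (el_zp (conj_sq g h2)) (zpowers_le.2 hg)
  have hu : u ∈ g⁻¹ ⋆ E := mem_conj.2 (by simpa using e (mem_zpowers _))
  obtain ⟨m, hm, hR⟩ := exists_join hP (hE.conj g⁻¹).pg h1
    ((abelian_cent (hE.conj g⁻¹).el.1).trans (cent_le_cent1 hu))
  obtain ⟨k, -, e1⟩ := hT.exists_conj_le hR le_top
  refine ⟨k, h.big_le h4 (((hE.conj g⁻¹).conj m).conj k) (((conj_mono k le_sup_right).trans e1).trans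
    (h.le_NB h4 hT.pgroup hB)) (conj_mem_conj.2 ?_), (conj_mono k le_sup_left).trans e1⟩
  exact mul_inv_eq_of_eq_mul (mem_cent1.1 hm) ▸ conj_mem_conj.2 hu

end AU

end Cfsg.Lib.UQ
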